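import Groth.Agent.RelCurve.Core
import Groth.Agent.FlatX.RelCartier
import Groth.Prelude.Def_Mor2
import Mathlib.AlgebraicGeometry.Morphisms.Smooth
import Mathlib.AlgebraicGeometry.Morphisms.QuasiFinite
import Mathlib.AlgebraicGeometry.Morphisms.FinitePresentation

/-! Effective Cartier divisors and flat quasi-finite closed subschemes of a smooth relative curve. -/

universe u

set_option linter.style.haveILetI false
set_option maxHeartbeats 400000

open CategoryTheory AlgebraicGeometry TensorProduct Groth.Agent.FlatX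

namespace Groth.Agent.RelCurve

section algebra

variable {A B : Type u} [CommRing A] [CommRing B] [Algebra A B]
  [Algebra.IsStandardSmoothOfRelativeDimension 1 A B]

/-- The quotient by a nonzerodivisor with flat quotient is quasi-finite. -/
theorem quasiFinite_quot {a : B} (ha : a ∈ nonZeroDivisors B) [Module.Flat A (B ⧸ Ideal.span {a})] :
    Algebra.QuasiFinite A (B ⧸ Ideal.span {a}) := by
  haveI := Algebra.IsStandardSmoothOfRelativeDimension.isStandardSmooth (R := A) (S := B) (n := 1)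
  refine ⟨fun p _ => ?_⟩
  let μ : B →ₗ[A] B := (LinearMap.mulLeft B a).restrictScalars A
  have hex : Function.Exact μ ((Ideal.Quotient.mkₐ A (Ideal.span {a})).toLinearMap) := by
    intro y
    constructor
    · intro hy
      obtain ⟨z, rfl⟩ := Ideal.mem_span_singleton.mp (Ideal.Quotient.eq_zero_iff_mem.mp hy)
      exact ⟨z, rfl⟩
    · rintro ⟨z, rfl⟩
      exact Ideal.Quotient.eq_zero_iff_mem.mpr (Ideal.mem_span_singleton.mpr ⟨z, rfl⟩)
  have hinj : Function.Injective μ := fun x y h => (mul_cancel_left_mem_nonZeroDivisors ha).mp h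
  have hui := CAlgUI.ui_of_flat_quotient hinj hex (Ideal.Quotient.mkₐ_surjective A _) p.ResidueField
  let m : p.Fiber B →ₐ[p.ResidueField] p.Fiber (B ⧸ Ideal.span {a}) :=
    Algebra.TensorProduct.map (AlgHom.id p.ResidueField p.ResidueField) (Ideal.Quotient.mkₐ A _)
  have hm : Function.Surjective m := by
    intro z
    induction z using TensorProduct.induction_on with
    | zero => exact ⟨0, map_zero m⟩
    | tmul c y =>
      obtain ⟨b, rfl⟩ := Ideal.Quotient.mk_surjective y
      exact ⟨c ⊗ₜ b, by simp [m]⟩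
    | add y z hy hz =>
      obtain ⟨y', rfl⟩ := hy
      obtain ⟨z', rfl⟩ := hz
      exact ⟨y' + z', map_add m y' z'⟩
  have hker : RingHom.ker m = Ideal.span {(1 : p.ResidueField) ⊗ₜ[A] a} := by
    rw [Algebra.TensorProduct.map_ker (AlgHom.id p.ResidueField p.ResidueField) (Ideal.Quotient.mkₐ A _)
      Function.surjective_id (Ideal.Quotient.mkₐ_surjective A _)]
    rw [show RingHom.ker (AlgHom.id p.ResidueField p.ResidueField) = ⊥ from
      (RingHom.injective_iff_ker_eq_bot _).mp Function.injective_id, Ideal.map_bot, bot_sup_eq,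
      show RingHom.ker (Ideal.Quotient.mkₐ A (Ideal.span {a})) = Ideal.span {a} from Ideal.mk_ker,
      Ideal.map_span, Set.image_singleton]
    rfl
  have hreg : (1 : p.ResidueField) ⊗ₜ[A] a ∈ nonZeroDivisors (p.Fiber B) := by
    refine mem_nonZeroDivisors_iff_right.mpr fun z hz => ?_
    let σ := TensorProduct.comm A p.ResidueField B
    have h : ∀ z : p.Fiber B, σ.symm (μ.rTensor p.ResidueField (σ z)) = z * ((1 : p.ResidueField) ⊗ₜ[A] a) := by
      intro z
      induction z using TensorProduct.induction_on with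
      | zero => simp
      | tmul c b => simp [μ, σ, mul_comm a b]
      | add x y hx hy => rw [map_add, map_add, map_add, add_mul, hx, hy]
    have h' := (h z).trans hz
    rw [LinearEquiv.map_eq_zero_iff] at h'
    exact σ.map_eq_zero_iff.mp (hui (h'.trans (map_zero _).symm))
  rcases subsingleton_or_nontrivial (p.Fiber B) with hs | hn
  · exact Module.Finite.of_surjective m.toLinearMap hm
  haveI : IsNoetherianRing (p.Fiber B) := RelCurve.noetherian p.ResidueField (p.Fiber B)
  haveI : Module.Finite p.ResidueField (p.Fiber B ⧸ RingHom.ker m) := by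
    rw [hker]
    haveI : Ring.KrullDimLE 0 (p.Fiber B ⧸ Ideal.span {(1 : p.ResidueField) ⊗ₜ[A] a}) := by
      rw [Ring.krullDimLE_iff]
      have h := ringKrullDim_quotient_succ_le_of_nonZeroDivisor hreg
      rw [SmoothDim.ringKrullDim_eq p.ResidueField (p.Fiber B) 1] at h
      revert h
      generalize ringKrullDim (p.Fiber B ⧸ Ideal.span {(1 : p.ResidueField) ⊗ₜ[A] a}) = d
      intro h
      induction d with
      | bot => exact bot_le
      | coe d =>
        induction d with
        | top => exact absurd h (by decide)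
        | coe n =>
          have : n + 1 ≤ 1 := by exact_mod_cast h
          exact_mod_cast (show n ≤ 0 by omega)
    exact (Module.finite_iff_krullDimLE_zero p.ResidueField (p.Fiber B ⧸ Ideal.span {(1 : p.ResidueField) ⊗ₜ[A] a})).mpr ‹_›
  exact Module.Finite.equiv (Ideal.quotientKerAlgEquivOfSurjective (f := m) hm).toLinearEquiv

end algebra

variable {X S : Scheme.{u}}

lemma appLE_subscheme_iff {Q : ∀ {R T : Type u} [CommRing R] [CommRing T], (R →+* T) → Prop}
    (hQ : RingHom.RespectsIso @Q) (f : X ⟶ S) (I : X.IdealSheafData) (W : S.affineOpens)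
    (U : X.affineOpens) (e : U.1 ≤ f ⁻¹ᵁ W.1) :
    Q ((I.subschemeι ≫ f).appLE W.1 (I.subschemeι ⁻¹ᵁ U.1) (fun _ hy => e hy)).hom ↔
      Q (quotApp f I W U e) := by
  let ψ := (RingHom.quotientKerEquivOfSurjective (I.subschemeι_app_surjective U))
  let E := (Ideal.quotEquivOfEq (I.ker_subschemeι_app U)).symm.trans ψ
  have h1 : ((I.subschemeι ≫ f).appLE W.1 (I.subschemeι ⁻¹ᵁ U.1) (fun _ hy => e hy)).hom =
      E.toRingHom.comp (quotApp f I W U e) := by
    rw [show (I.subschemeι ≫ f).appLE W.1 (I.subschemeι ⁻¹ᵁ U.1) (fun _ hy => e hy) =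
      f.appLE W.1 U.1 e ≫ I.subschemeι.app U.1 by
        rw [Scheme.Hom.app_eq_appLE, Scheme.Hom.appLE_comp_appLE]]
    ext y
    rfl
  rw [h1]
  refine ⟨fun h => ?_, fun h => hQ.1 _ E h⟩
  have h' := hQ.1 _ E.symm h
  convert h' using 1
  ext y
  exact (E.symm_apply_apply _).symm

/-- A chart of a smooth curve at `x`. -/
lemma exists_smooth_chart (f : X ⟶ S) [SmoothOfRelativeDimension 1 f] (x : X) :
    ∃ (W : S.affineOpens) (V : X.affineOpens) (e : V.1 ≤ f ⁻¹ᵁ W.1), x ∈ V.1 ∧
      (f.appLE W.1 V.1 e).hom.IsStandardSmoothOfRelativeDimension 1 := by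
  obtain ⟨W, hW, V, hV, hx, e, h⟩ :=
    SmoothOfRelativeDimension.exists_isStandardSmoothOfRelativeDimension (n := 1) (f := f) x
  exact ⟨⟨W, hW⟩, ⟨V, hV⟩, e, hx, h⟩

lemma chart_basicOpen (f : X ⟶ S) (W : S.affineOpens) (V : X.affineOpens) (e : V.1 ≤ f ⁻¹ᵁ W.1)
    (h : (f.appLE W.1 V.1 e).hom.IsStandardSmoothOfRelativeDimension 1) (r : Γ(X, V.1)) :
    (f.appLE W.1 (X.affineBasicOpen r).1 ((X.basicOpen_le r).trans e)).hom.IsStandardSmoothOfRelativeDimension 1 := by
  haveI := V.2.isLocalization_basicOpen r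
  have h0 : (algebraMap Γ(X, V.1) Γ(X, X.basicOpen r)).IsStandardSmoothOfRelativeDimension 0 :=
    (RingHom.isStandardSmoothOfRelativeDimension_algebraMap _).mpr
      (Algebra.IsStandardSmoothOfRelativeDimension.localization_away r)
  have h1 := h0.comp h
  have he : (f.appLE W.1 (X.affineBasicOpen r).1 ((X.basicOpen_le r).trans e)).hom =
      (algebraMap Γ(X, V.1) Γ(X, X.basicOpen r)).comp (f.appLE W.1 V.1 e).hom := by
    rw [show f.appLE W.1 (X.affineBasicOpen r).1 ((X.basicOpen_le r).trans e) =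
      f.appLE W.1 V.1 e ≫ X.presheaf.map (homOfLE (X.basicOpen_le r)).op from (f.appLE_map e _).symm]
    rfl
  rw [he]
  exact h1

lemma exists_smooth_locGen (f : X ⟶ S) [SmoothOfRelativeDimension 1 f] {I : X.IdealSheafData}
    (hI : BlowUp.IsEffCartierIdeal I) (x : X) :
    ∃ (W : S.affineOpens) (V : X.affineOpens) (e : V.1 ≤ f ⁻¹ᵁ W.1), x ∈ V.1 ∧
      (f.appLE W.1 V.1 e).hom.IsStandardSmoothOfRelativeDimension 1 ∧ LocGen I V := by
  obtain ⟨W, V, e, hxV, hsm⟩ := exists_smooth_chart f x
  obtain ⟨U, hxU, hUV, hU⟩ := exists_locGen hI hxV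
  obtain ⟨g, g', eg, hxg⟩ := exists_basicOpen_le_affine_inter V.2 U.2 x ⟨hxV, hxU⟩
  refine ⟨W, X.affineBasicOpen g, (X.basicOpen_le g).trans e, hxg, chart_basicOpen f W V e hsm g, ?_⟩
  have : X.affineBasicOpen g = X.affineBasicOpen g' := Subtype.ext eg
  exact this ▸ LocGen.basicOpen hU g'

/-- A flat effective Cartier divisor on a smooth curve is locally quasi-finite and finitely presented. -/
theorem lqf_lfp_of_cartier (f : X ⟶ S) [SmoothOfRelativeDimension 1 f] {I : X.IdealSheafData}
    (hI : BlowUp.IsEffCartierIdeal I) (hf : Flat (I.subschemeι ≫ f)) :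
    LocallyQuasiFinite (I.subschemeι ≫ f) ∧ LocallyOfFinitePresentation (I.subschemeι ≫ f) := by
  have key : ∀ x : X, ∃ (W : S.affineOpens) (V : X.affineOpens) (e : V.1 ≤ f ⁻¹ᵁ W.1),
      x ∈ V.1 ∧ (quotApp f I W V e).QuasiFinite ∧ (quotApp f I W V e).FinitePresentation := by
    intro x
    obtain ⟨W, V, e, hxV, hsm, a, ha, hIa⟩ := exists_smooth_locGen f hI x
    have hfl := flat_congr _ hIa (flat_quotApp f I hf W V e)
    refine ⟨W, V, e, hxV, ?_⟩
    letI := (f.appLE W.1 V.1 e).hom.toAlgebra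
    haveI : Algebra.IsStandardSmoothOfRelativeDimension 1 Γ(S, W.1) Γ(X, V.1) := hsm
    haveI := Algebra.IsStandardSmoothOfRelativeDimension.isStandardSmooth
      (R := Γ(S, W.1)) (S := Γ(X, V.1)) (n := 1)
    haveI : Module.Flat Γ(S, W.1) (Γ(X, V.1) ⧸ Ideal.span {a}) := RingHom.flat_algebraMap_iff.mp hfl
    have h1 : Algebra.QuasiFinite Γ(S, W.1) (Γ(X, V.1) ⧸ Ideal.span {a}) := quasiFinite_quot ha
    have h2 : Algebra.FinitePresentation Γ(S, W.1) (Γ(X, V.1) ⧸ Ideal.span {a}) :=
      Algebra.FinitePresentation.quotient (Submodule.fg_span_singleton a)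
    rw [← hIa] at h1 h2
    exact ⟨RingHom.quasiFinite_algebraMap.mpr h1, RingHom.finitePresentation_algebraMap.mpr h2⟩
  constructor
  · rw [HasRingHomProperty.iff_exists_appLE (P := @LocallyQuasiFinite)
      (RingHom.QuasiFinite.stableUnderComposition.stableUnderCompositionWithLocalizationAway
        RingHom.QuasiFinite.holdsForLocalizationAway).left]
    intro d
    obtain ⟨W, V, e, hdV, h, -⟩ := key (I.subschemeι d)
    exact ⟨W, ⟨_, V.2.preimage I.subschemeι⟩, hdV, fun _ hy => e hy,
      (appLE_subscheme_iff RingHom.QuasiFinite.respectsIso f I W V e).mpr h⟩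
  · rw [HasRingHomProperty.iff_exists_appLE (P := @LocallyOfFinitePresentation)
      (RingHom.finitePresentation_stableUnderComposition.stableUnderCompositionWithLocalizationAway
        RingHom.finitePresentation_holdsForLocalizationAway).left]
    intro d
    obtain ⟨W, V, e, hdV, -, h⟩ := key (I.subschemeι d)
    exact ⟨W, ⟨_, V.2.preimage I.subschemeι⟩, hdV, fun _ hy => e hy,
      (appLE_subscheme_iff RingHom.finitePresentation_respectsIso f I W V e).mpr h⟩

/-- A flat, locally quasi-finite, finitely presented closed subscheme of a smooth curve is a divisor. -/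
theorem cartier_of_lqf (f : X ⟶ S) [SmoothOfRelativeDimension 1 f] {I : X.IdealSheafData}
    (hq : LocallyQuasiFinite (I.subschemeι ≫ f)) (hf : Flat (I.subschemeι ≫ f))
    (hp : LocallyOfFinitePresentation (I.subschemeι ≫ f)) : BlowUp.IsEffCartierIdeal I := by
  intro x
  obtain ⟨W, V, e, hxV, hsm⟩ := exists_smooth_chart f x
  have hfl := flat_quotApp f I hf W V e
  have hqf := (appLE_subscheme_iff RingHom.QuasiFinite.respectsIso f I W V e).mp
    (HasRingHomProperty.appLE @LocallyQuasiFinite (I.subschemeι ≫ f) hq W ⟨_, V.2.preimage I.subschemeι⟩ _)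
  have hfp := (appLE_subscheme_iff RingHom.finitePresentation_respectsIso f I W V e).mp
    (HasRingHomProperty.appLE @LocallyOfFinitePresentation (I.subschemeι ≫ f) hp W ⟨_, V.2.preimage I.subschemeι⟩ _)
  letI := (f.appLE W.1 V.1 e).hom.toAlgebra
  haveI : Algebra.IsStandardSmoothOfRelativeDimension 1 Γ(S, W.1) Γ(X, V.1) := hsm
  haveI := Algebra.IsStandardSmoothOfRelativeDimension.isStandardSmooth
    (R := Γ(S, W.1)) (S := Γ(X, V.1)) (n := 1)
  haveI : Module.Flat Γ(S, W.1) (Γ(X, V.1) ⧸ I.ideal V) := RingHom.flat_algebraMap_iff.mp hfl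
  haveI hQ : Algebra.QuasiFinite Γ(S, W.1) (Γ(X, V.1) ⧸ I.ideal V) := RingHom.quasiFinite_algebraMap.mp hqf
  haveI : Algebra.FinitePresentation Γ(S, W.1) (Γ(X, V.1) ⧸ I.ideal V) :=
    RingHom.finitePresentation_algebraMap.mp hfp
  have hfg : (I.ideal V).FG := by
    have := Algebra.FinitePresentation.ker_fG_of_surjective (Ideal.Quotient.mkₐ Γ(S, W.1) (I.ideal V))
      (Ideal.Quotient.mkₐ_surjective _ _)
    rwa [show RingHom.ker (Ideal.Quotient.mkₐ Γ(S, W.1) (I.ideal V)).toRingHom = I.ideal V from Ideal.mk_ker] at this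
  obtain ⟨g, hg, a, -, hga⟩ := exists_local_gen (A := Γ(S, W.1)) (I.ideal V) hfg
    (V.2.primeIdealOf ⟨x, hxV⟩).asIdeal
  have hnz := gen_mem_nonZeroDivisors (A := Γ(S, W.1)) (I.ideal V)
    (fun p _ => hQ.finite_fiber p) g hga
  haveI := V.2.isLocalization_basicOpen g
  let ε := IsLocalization.algEquiv (Submonoid.powers g) (Localization.Away g) Γ(X, X.basicOpen g)
  refine ⟨X.affineBasicOpen g, ?_, algebraMap Γ(X, V.1) Γ(X, X.basicOpen g) a, ?_, ?_⟩
  · show x ∈ X.basicOpen g
    have hx : V.2.fromSpec (V.2.primeIdealOf ⟨x, hxV⟩) = x := V.2.fromSpec_primeIdealOf ⟨x, hxV⟩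
    rw [← hx]
    exact (SetLike.ext_iff.mp (V.2.fromSpec_preimage_basicOpen g) (V.2.primeIdealOf ⟨x, hxV⟩)).mpr hg
  · refine mem_nonZeroDivisors_iff_right.mpr fun y hy => ?_
    change Γ(X, X.basicOpen g) at y
    refine ε.symm.injective ((mem_nonZeroDivisors_iff_right.mp hnz (ε.symm y) ?_).trans (map_zero _).symm)
    rw [← ε.symm.commutes, ← map_mul]
    exact (congrArg ε.symm hy).trans (map_zero _)
  · refine (I.map_ideal_basicOpen V g).symm.trans ?_
    have h := congrArg (Ideal.map ε.toAlgHom.toRingHom) hga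
    rw [Ideal.map_map, Ideal.map_span, Set.image_singleton] at h
    rw [show ε.toAlgHom.toRingHom.comp (algebraMap Γ(X, V.1) (Localization.Away g)) =
      algebraMap Γ(X, V.1) Γ(X, X.basicOpen g) from ε.toAlgHom.comp_algebraMap,
      show ε.toAlgHom.toRingHom (algebraMap Γ(X, V.1) (Localization.Away g) a) =
        algebraMap Γ(X, V.1) Γ(X, X.basicOpen g) a from ε.commutes a] at h
    exact h

theorem cartier_of_finLocFree (f : X ⟶ S) [SmoothOfRelativeDimension 1 f] {I : X.IdealSheafData}
    (h : Mor2.IsFinLocFree (I.subschemeι ≫ f)) : BlowUp.IsEffCartierIdeal I := by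
  obtain ⟨h1, h2, h3⟩ := h
  exact cartier_of_lqf f inferInstance h2 h3

end Groth.Agent.RelCurve
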