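import Groth.Agent.RelCurve.Core
import Mathlib.RingTheory.Artinian.Module
import Mathlib.RingTheory.Spectrum.Prime.FreeLocus

/-! Additivity of rank for a product of two locally principal regular ideals. -/

universe u

set_option linter.style.haveILetI false
set_option linter.unusedSectionVars false

open TensorProduct

namespace Groth.Agent.RelCurve

/-- `J₁ = (g)` and `J₂ = ann g`. -/
def Pair {C : Type u} [CommRing C] (J₁ J₂ : Ideal C) : Prop :=
  ∃ g ∈ J₁, J₁ ≤ Ideal.span {g} ∧ ∀ y, g * y = 0 ↔ y ∈ J₂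

/-- The same condition near the prime `m`. -/
def LocPair {C : Type u} [CommRing C] (J₁ J₂ m : Ideal C) : Prop :=
  ∃ g ∈ J₁, (∀ x ∈ J₁, ∃ t ∉ m, t * x ∈ Ideal.span {g}) ∧
    (∀ y ∈ J₂, ∃ t ∉ m, t * y * g = 0) ∧ ∀ y, g * y = 0 → ∃ t ∉ m, t * y ∈ J₂

theorem locPair_of_away {C C' : Type u} [CommRing C] [CommRing C'] [Algebra C C'] (h : C)
    [IsLocalization.Away h C'] {J₁ J₂ : Ideal C}
    (hp : Pair (J₁.map (algebraMap C C')) (J₂.map (algebraMap C C'))) (m : Ideal C) [m.IsPrime]
    (hm : h ∉ m) : LocPair J₁ J₂ m := by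
  set φ := algebraMap C C'
  obtain ⟨g', hg', hgen, hann⟩ := hp
  obtain ⟨⟨⟨g₀, hg₀⟩, ⟨s, hs⟩⟩, e⟩ := (IsLocalization.mem_map_algebraMap_iff (Submonoid.powers h) C').mp hg'
  dsimp only at e
  have hnot : ∀ t ∈ Submonoid.powers h, t ∉ m := by
    rintro _ ⟨n, rfl⟩ hh
    exact hm (‹m.IsPrime›.mem_of_pow_mem n hh)
  have hu : IsUnit (φ s) := IsLocalization.map_units (M := Submonoid.powers h) C' ⟨s, hs⟩
  have hspan : ∀ z ∈ Ideal.span {g'}, z ∈ Ideal.map φ (Ideal.span {g₀}) := fun z hz => by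
    rw [Ideal.map_span, Set.image_singleton, ← e, Ideal.span_singleton_mul_right_unit hu]
    exact hz
  refine ⟨g₀, hg₀, fun x hx => ?_, fun y hy => ?_, fun y hy => ?_⟩
  · obtain ⟨t, ht, htx⟩ := (IsLocalization.algebraMap_mem_map_algebraMap_iff (Submonoid.powers h) C' _ _).mp
      (hspan _ (hgen (Ideal.mem_map_of_mem φ hx)))
    exact ⟨t, hnot t ht, htx⟩
  · have h1 : φ (y * g₀) = φ 0 := by
      rw [map_mul, map_zero, ← e, ← mul_assoc, mul_comm (φ y), (hann (φ y)).mpr (Ideal.mem_map_of_mem φ hy), zero_mul]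
    obtain ⟨⟨t, ht⟩, ht'⟩ := (IsLocalization.eq_iff_exists (Submonoid.powers h) C').mp h1
    exact ⟨t, hnot t ht, by rw [mul_assoc]; exact ht'.trans (mul_zero t)⟩
  · have h1 : φ y ∈ Ideal.map φ J₂ := by
      refine (hann _).mp ?_
      refine hu.mul_left_eq_zero.mp ?_
      rw [mul_right_comm, e, ← map_mul, hy, map_zero]
    obtain ⟨t, ht, hty⟩ := (IsLocalization.algebraMap_mem_map_algebraMap_iff (Submonoid.powers h) C' _ _).mp h1
    exact ⟨t, hnot t ht, hty⟩

theorem finrank_add_of_locPair {k F : Type u} [Field k] [CommRing F] [Algebra k F] [Module.Finite k F]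
    {J₁ J₂ : Ideal F} (h : ∀ m : Ideal F, m.IsMaximal → LocPair J₁ J₂ m) :
    Module.finrank k F = Module.finrank k (F ⧸ J₁) + Module.finrank k (F ⧸ J₂) := by
  classical
  haveI : IsArtinianRing F := IsArtinianRing.of_finite k F
  haveI : Fintype (MaximalSpectrum F) := Fintype.ofFinite _
  choose g hg hgen hann1 hann2 using fun m : MaximalSpectrum F => h m.asIdeal m.isMaximal
  have he : ∀ m : MaximalSpectrum F, ∃ e : F, e ∉ m.asIdeal ∧ ∀ m' ≠ m, e ∈ m'.asIdeal := fun m => by
    have hnot : ¬ (Finset.univ.erase m).inf MaximalSpectrum.asIdeal ≤ m.asIdeal := by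
      rw [Ideal.IsPrime.inf_le' m.isMaximal.isPrime]
      rintro ⟨m', hm', hle⟩
      exact (Finset.ne_of_mem_erase hm') (MaximalSpectrum.ext (m'.isMaximal.eq_of_le m.isMaximal.ne_top hle))
    obtain ⟨e, he1, he2⟩ := SetLike.not_le_iff_exists.mp hnot
    exact ⟨e, he2, fun m' hm' => Finset.inf_le (f := MaximalSpectrum.asIdeal) (Finset.mem_erase.mpr ⟨hm', Finset.mem_univ _⟩) he1⟩
  choose e he1 he2 using he
  set G := ∑ m, e m * g m
  have hG : G ∈ J₁ := Submodule.sum_mem _ fun m _ => Ideal.mul_mem_left _ _ (hg m)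
  have hcomp : ∀ m : MaximalSpectrum F, ∃ t u, t ∉ m.asIdeal ∧ u ∉ m.asIdeal ∧ t * G = u * g m := by
    intro m
    haveI := m.isMaximal.isPrime
    choose t ht htc using fun m' => hgen m (g m') (hg m')
    choose c hc using fun m' => Ideal.mem_span_singleton'.mp (htc m')
    set T := ∏ m', t m'
    have hT : T ∉ m.asIdeal := fun hh => by
      obtain ⟨i, -, hi⟩ := (Ideal.IsPrime.prod_mem_iff (p := m.asIdeal)).mp hh
      exact ht i hi
    set R := ∑ m' ∈ Finset.univ.erase m, e m' * ((∏ i ∈ Finset.univ.erase m', t i) * c m')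
    refine ⟨T, T * e m + R, hT, fun hh => ?_, ?_⟩
    · have hR : R ∈ m.asIdeal := Submodule.sum_mem _ fun m' hm' =>
        Ideal.mul_mem_right _ _ (he2 m' m (Finset.ne_of_mem_erase hm').symm)
      exact ((Ideal.IsPrime.mem_or_mem inferInstance ((Ideal.add_mem_iff_left _ hR).mp hh)).elim hT (he1 m))
    · simp only [G, R]
      rw [← Finset.add_sum_erase _ _ (Finset.mem_univ m), mul_add, add_mul, Finset.mul_sum, Finset.sum_mul]
      congr 1
      · ring
      · refine Finset.sum_congr rfl fun m' _ => ?_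
        rw [show e m' * ((∏ i ∈ Finset.univ.erase m', t i) * c m') * g m =
          e m' * (∏ i ∈ Finset.univ.erase m', t i) * (c m' * g m) by ring, hc m']
        simp only [T]
        rw [← Finset.mul_prod_erase Finset.univ t (Finset.mem_univ m')]
        ring
  have hglob : ∀ {J : Ideal F} {x : F}, (∀ m : MaximalSpectrum F, ∃ t ∉ m.asIdeal, t * x ∈ J) → x ∈ J := by
    intro J x hx
    have htop : Submodule.colon J ({x} : Set F) = ⊤ := by
      by_contra hne
      obtain ⟨m, hm, hle⟩ := Ideal.exists_le_maximal _ hne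
      obtain ⟨t, ht, htx⟩ := hx ⟨m, hm⟩
      exact ht (hle (Submodule.mem_colon_singleton.mpr htx))
    have h1 := Submodule.mem_colon_singleton.mp (htop ▸ Submodule.mem_top (x := (1 : F)))
    simpa using h1
  have hJ : ∀ x ∈ J₁, x ∈ Ideal.span {G} := fun x hx => hglob fun m => by
    haveI := m.isMaximal.isPrime
    obtain ⟨t, u, ht, hu, e1⟩ := hcomp m
    obtain ⟨t', ht', htx⟩ := hgen m x hx
    obtain ⟨c, hc⟩ := Ideal.mem_span_singleton'.mp htx
    refine ⟨u * t', fun hh => (Ideal.IsPrime.mem_or_mem inferInstance hh).elim hu ht',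
      Ideal.mem_span_singleton'.mpr ⟨c * t, ?_⟩⟩
    rw [mul_assoc c, e1, mul_assoc u, ← hc]
    ring
  let μ : F →ₗ[k] F := LinearMap.mulLeft k G
  have hrange : LinearMap.range μ = J₁.restrictScalars k := by
    ext x
    refine ⟨?_, fun hx => ?_⟩
    · rintro ⟨y, rfl⟩
      exact Ideal.mul_mem_right _ _ hG
    · obtain ⟨c, hc⟩ := Ideal.mem_span_singleton'.mp (hJ x hx)
      exact ⟨c, (mul_comm G c).trans hc⟩
  have hker : LinearMap.ker μ = J₂.restrictScalars k := by
    ext y
    refine ⟨fun hy => ?_, fun hy => ?_⟩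
    · show y ∈ J₂
      refine hglob fun m => ?_
      haveI := m.isMaximal.isPrime
      obtain ⟨t, u, ht, hu, e1⟩ := hcomp m
      have h0 : g m * (u * y) = 0 := by
        rw [← mul_assoc, mul_comm (g m), ← e1, mul_assoc, show G * y = 0 from hy, mul_zero]
      obtain ⟨t', ht', h'⟩ := hann2 m _ h0
      exact ⟨t' * u, fun hh => (Ideal.IsPrime.mem_or_mem inferInstance hh).elim ht' hu, by rwa [mul_assoc]⟩
    · show G * y = 0
      refine (Submodule.mem_bot F).mp (hglob fun m => ?_)
      haveI := m.isMaximal.isPrime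
      obtain ⟨t, u, ht, hu, e1⟩ := hcomp m
      obtain ⟨t', ht', h'⟩ := hann1 m y hy
      refine ⟨t' * t, fun hh => (Ideal.IsPrime.mem_or_mem inferInstance hh).elim ht' ht, ?_⟩
      rw [Submodule.mem_bot, show t' * t * (G * y) = t' * y * (t * G) by ring, e1,
        show t' * y * (u * g m) = u * (t' * y * g m) by ring, h', mul_zero]
  have h1 := LinearMap.finrank_range_add_finrank_ker μ
  have q1 := Submodule.finrank_quotient_add_finrank (J₁.restrictScalars k)
  have q2 := Submodule.finrank_quotient_add_finrank (J₂.restrictScalars k)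
  rw [hrange, hker] at h1
  have e1 : Module.finrank k (F ⧸ J₁.restrictScalars k) = Module.finrank k (F ⧸ J₁) :=
    (Submodule.Quotient.restrictScalarsEquiv k J₁).finrank_eq
  have e2 : Module.finrank k (F ⧸ J₂.restrictScalars k) = Module.finrank k (F ⧸ J₂) :=
    (Submodule.Quotient.restrictScalarsEquiv k J₂).finrank_eq
  omega

/-- The fibre of a quotient. -/
noncomputable def fibreQuotEquiv {A C : Type u} [CommRing A] [CommRing C] [Algebra A C] (p : Ideal A)
    [p.IsPrime] (J : Ideal C) :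
    (p.Fiber C ⧸ fibreIdeal J p) ≃ₗ[p.ResidueField] p.Fiber (C ⧸ J) :=
  let m : p.Fiber C →ₐ[p.ResidueField] p.Fiber (C ⧸ J) :=
    Algebra.TensorProduct.map (AlgHom.id p.ResidueField p.ResidueField) (Ideal.Quotient.mkₐ A J)
  have hm : Function.Surjective m := by
    intro z
    induction z using TensorProduct.induction_on with
    | zero => exact ⟨0, map_zero m⟩
    | tmul c y =>
      obtain ⟨b, rfl⟩ := Ideal.Quotient.mk_surjective y
      exact ⟨c ⊗ₜ b, by simp [m]⟩
    | add y z hy hz =>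
      obtain ⟨y', rfl⟩ := hy
      obtain ⟨z', rfl⟩ := hz
      exact ⟨y' + z', map_add m y' z'⟩
  have hker : RingHom.ker m = fibreIdeal J p := by
    rw [Algebra.TensorProduct.map_ker (AlgHom.id p.ResidueField p.ResidueField) (Ideal.Quotient.mkₐ A J)
      Function.surjective_id (Ideal.Quotient.mkₐ_surjective A J),
      show RingHom.ker (AlgHom.id p.ResidueField p.ResidueField) = ⊥ from
        (RingHom.injective_iff_ker_eq_bot _).mp Function.injective_id, Ideal.map_bot, bot_sup_eq,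
      show RingHom.ker (Ideal.Quotient.mkₐ A J) = J from Ideal.mk_ker]
    rfl
  ((Ideal.quotientEquivAlgOfEq p.ResidueField hker.symm).trans
    (Ideal.quotientKerAlgEquivOfSurjective (f := m) hm)).toLinearEquiv

theorem rankAtStalk_add_of_locPair {A C : Type u} [CommRing A] [CommRing C] [Algebra A C]
    [Module.Finite A C] [Module.Flat A C] (J₁ J₂ : Ideal C) [Module.Flat A (C ⧸ J₁)] [Module.Flat A (C ⧸ J₂)]
    (h : ∀ m : Ideal C, m.IsPrime → LocPair J₁ J₂ m) (p : PrimeSpectrum A) :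
    Module.rankAtStalk (R := A) C p =
      Module.rankAtStalk (R := A) (C ⧸ J₁) p + Module.rankAtStalk (R := A) (C ⧸ J₂) p := by
  classical
  haveI : Module.Finite A (C ⧸ J₁) := Module.Finite.of_surjective (Ideal.Quotient.mkₐ A J₁).toLinearMap Ideal.Quotient.mk_surjective
  haveI : Module.Finite A (C ⧸ J₂) := Module.Finite.of_surjective (Ideal.Quotient.mkₐ A J₂).toLinearMap Ideal.Quotient.mk_surjective
  let P := p.asIdeal
  rw [Module.rankAtStalk_eq, Module.rankAtStalk_eq, Module.rankAtStalk_eq,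
    ← (fibreQuotEquiv P J₁).finrank_eq, ← (fibreQuotEquiv P J₂).finrank_eq]
  refine finrank_add_of_locPair fun M hM => ?_
  haveI := hM.isPrime
  let ι : C →ₐ[A] P.Fiber C := Algebra.TensorProduct.includeRight
  obtain ⟨g, hg, hgen, h2, h3⟩ := h (M.comap ι) (Ideal.comap_isPrime _ _)
  have hr : ∀ r : A, r ∉ P → algebraMap A (P.Fiber C) r ∉ M := fun r hr hh => by
    have hu : IsUnit (algebraMap A (P.Fiber C) r) := by
      rw [IsScalarTower.algebraMap_apply A P.ResidueField (P.Fiber C)]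
      exact (isUnit_iff_ne_zero.mpr (by rwa [ne_eq, Ideal.algebraMap_residueField_eq_zero])).map _
    exact hM.ne_top (Ideal.eq_top_of_isUnit_mem _ hh hu)
  have hmul : ∀ {a b : P.Fiber C}, a ∉ M → b ∉ M → a * b ∉ M := fun ha hb hh =>
    (hM.isPrime.mem_or_mem hh).elim ha hb
  refine ⟨ι g, Ideal.mem_map_of_mem _ hg, fun x hx => ?_, fun y hy => ?_, fun y hy => ?_⟩
  · obtain ⟨r, hrp, x₀, hx₀, e⟩ := mem_fibreIdeal hx
    obtain ⟨t, ht, htx⟩ := hgen x₀ hx₀
    obtain ⟨c, hc⟩ := Ideal.mem_span_singleton'.mp htx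
    refine ⟨ι t * algebraMap A (P.Fiber C) r, hmul ht (hr r hrp), Ideal.mem_span_singleton'.mpr ⟨ι c, ?_⟩⟩
    rw [mul_assoc, ← Algebra.smul_def, e, ← map_mul, hc, map_mul]
    rfl
  · obtain ⟨r, hrp, y₀, hy₀, e⟩ := mem_fibreIdeal hy
    obtain ⟨t, ht, hty⟩ := h2 y₀ hy₀
    refine ⟨ι t * algebraMap A (P.Fiber C) r, hmul ht (hr r hrp), ?_⟩
    rw [mul_assoc (ι t), ← Algebra.smul_def, e]
    show ι t * ι y₀ * ι g = 0
    rw [← map_mul, ← map_mul, hty, map_zero]
  · obtain ⟨r, hrp, y₀, e⟩ := Ideal.Fiber.exists_smul_eq_one_tmul P y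
    have h0 : (1 : P.ResidueField) ⊗ₜ[A] (g * y₀) = 0 := by
      show ι (g * y₀) = 0
      rw [map_mul, show ι y₀ = r • y from e.symm, Algebra.smul_def, mul_left_comm, hy, mul_zero]
    obtain ⟨s, hs, hsy⟩ := exists_smul_mem_of_tmul_eq_zero P h0
    have hmem := mem_mul_of_flat J₁ P (Ideal.mul_mem_left _ _ (Ideal.mul_mem_right _ _ hg)) hsy
    -- elements of `P J₁` are, locally, multiples of `g` by elements of `P C`
    have hw : ∀ z ∈ P.map (algebraMap A C) * J₁, ∃ t ∉ M.comap ι, ∃ w ∈ P.map (algebraMap A C), t * z = g * w := by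
      intro z hz
      induction hz using Submodule.mul_induction_on' with
      | mem_mul_mem a ha b hb =>
        obtain ⟨t, ht, htb⟩ := hgen b hb
        obtain ⟨c, hc⟩ := Ideal.mem_span_singleton'.mp htb
        exact ⟨t, ht, a * c, Ideal.mul_mem_right _ _ ha, by rw [mul_left_comm, ← hc]; ring⟩
      | add a _ b _ ha hb =>
        obtain ⟨t, ht, w, hw, e1⟩ := ha
        obtain ⟨t', ht', w', hw', e2⟩ := hb
        refine ⟨t * t', fun hh => ((Ideal.comap_isPrime ι M).mem_or_mem hh).elim ht ht', t' * w + t * w',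
          add_mem (Ideal.mul_mem_left _ _ hw) (Ideal.mul_mem_left _ _ hw'), ?_⟩
        linear_combination t' * e1 + t * e2
    obtain ⟨t, ht, w, hw, e1⟩ := hw _ hmem
    obtain ⟨t', ht', hty⟩ := h3 (t * algebraMap A C s * y₀ - w) (by linear_combination e1)
    refine ⟨ι t' * ι t * algebraMap A (P.Fiber C) s * algebraMap A (P.Fiber C) r,
      hmul (hmul (hmul ht' ht) (hr s hs)) (hr r hrp), ?_⟩
    have hw0 : ι w = 0 := by
      have : w ∈ RingHom.ker ι := by
        refine (Ideal.map_le_iff_le_comap.mpr fun a ha => ?_) hw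
        rw [Ideal.mem_comap, RingHom.mem_ker, AlgHom.commutes,
          IsScalarTower.algebraMap_apply A P.ResidueField (P.Fiber C), Ideal.algebraMap_residueField_eq_zero.mpr ha,
          map_zero]
      exact this
    have heq : ι t' * ι t * algebraMap A (P.Fiber C) s * algebraMap A (P.Fiber C) r * y =
        ι (t' * (t * algebraMap A C s * y₀ - w)) := by
      rw [mul_assoc _ (algebraMap A (P.Fiber C) r), ← Algebra.smul_def, e, map_mul, map_sub, hw0, sub_zero,
        map_mul, map_mul, AlgHom.commutes]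
      show ι t' * ι t * algebraMap A (P.Fiber C) s * ι y₀ = _
      ring
    rw [heq]
    exact Ideal.mem_map_of_mem _ hty

end Groth.Agent.RelCurve
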