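import Groth.Agent.RelCurve.Scheme
import Groth.Agent.RelCurve.Pair
import Groth.Agent.H23.CoverPush
import Groth.Agent.QCoh.ProperOver

/-! Sums of finite flat divisors on a smooth relative curve. -/

universe u

set_option linter.style.haveILetI false
set_option maxHeartbeats 1000000

open CategoryTheory CategoryTheory.Limits AlgebraicGeometry Groth.Agent.FlatX

namespace Groth.Agent.RelCurve

theorem pair_away {C : Type u} [CommRing C] (r : C) (C' : Type u) [CommRing C'] [Algebra C C']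
    [IsLocalization.Away r C'] {J₁ J₂ : Ideal C} (h : Pair J₁ J₂) :
    Pair (J₁.map (algebraMap C C')) (J₂.map (algebraMap C C')) := by
  obtain ⟨g, hg, hgen, hann⟩ := h
  refine ⟨algebraMap C C' g, Ideal.mem_map_of_mem _ hg, ?_, fun y => ⟨fun hy => ?_, fun hy => ?_⟩⟩
  · rw [← Set.image_singleton, ← Ideal.map_span]
    exact Ideal.map_mono hgen
  · obtain ⟨⟨z, s⟩, e⟩ := IsLocalization.surj (Submonoid.powers r) y
    dsimp only at e
    have h0 : algebraMap C C' (g * z) = algebraMap C C' 0 := by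
      rw [map_mul, ← e, ← mul_assoc, hy, zero_mul, map_zero]
    obtain ⟨t, ht⟩ := (IsLocalization.eq_iff_exists (Submonoid.powers r) C').mp h0
    rw [mul_zero, ← mul_assoc, mul_comm (t : C) g, mul_assoc] at ht
    have hmem : y * algebraMap C C' (s * t : Submonoid.powers r) ∈ J₂.map (algebraMap C C') := by
      rw [Submonoid.coe_mul, map_mul, ← mul_assoc, e, ← map_mul, mul_comm]
      exact Ideal.mem_map_of_mem _ ((hann _).mp ht)
    exact (Ideal.mul_unit_mem_iff_mem _ (IsLocalization.map_units C' (s * t))).mp hmem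
  · obtain ⟨⟨⟨z, hz⟩, s⟩, e⟩ := (IsLocalization.mem_map_algebraMap_iff (Submonoid.powers r) C').mp hy
    dsimp only at e
    refine (IsLocalization.map_units C' s).mul_left_eq_zero.mp ?_
    rw [mul_assoc, e, ← map_mul, (hann z).mpr hz, map_zero]

variable {X S : Scheme.{u}} (f : X ⟶ S)

lemma mul_le_left (I J : X.IdealSheafData) : I * J ≤ I := by
  intro U
  show I.ideal U * J.ideal U ≤ I.ideal U
  exact Ideal.mul_le_inf.trans inf_le_left

lemma mul_le_right' (I J : X.IdealSheafData) : I * J ≤ J := by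
  intro U
  show I.ideal U * J.ideal U ≤ J.ideal U
  exact Ideal.mul_le_inf.trans inf_le_right

/-- The ideal of `D_K` in `D_I` on a preimage chart. -/
lemma ker_inclusion {I K : X.IdealSheafData} (h : I ≤ K) (V : X.affineOpens) :
    (Scheme.IdealSheafData.inclusion h).ker.ideal ⟨_, V.2.preimage I.subschemeι⟩ =
      Ideal.map (I.subschemeι.app V.1).hom (K.ideal V) := by
  haveI : IsClosedImmersion (Scheme.IdealSheafData.inclusion h) := by
    haveI : IsClosedImmersion (Scheme.IdealSheafData.inclusion h ≫ I.subschemeι) := by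
      rw [Scheme.IdealSheafData.inclusion_subschemeι]; infer_instance
    exact IsClosedImmersion.of_comp _ I.subschemeι
  set j := Scheme.IdealSheafData.inclusion h
  have h1 : K.ideal V = RingHom.ker ((j ≫ I.subschemeι).app V.1).hom := by
    rw [← Scheme.Hom.ker_apply, Scheme.IdealSheafData.inclusion_subschemeι,
      Scheme.IdealSheafData.ker_subschemeι]
  have h2 : K.ideal V = Ideal.comap (I.subschemeι.app V.1).hom
      (RingHom.ker (j.app (I.subschemeι ⁻¹ᵁ V.1)).hom) :=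
    h1.trans (RingHom.comap_ker _ _).symm
  refine (Scheme.Hom.ker_apply j _).trans ?_
  rw [h2]
  exact (Ideal.map_comap_of_surjective _ (I.subschemeι_app_surjective V) _).symm

theorem pair_chart {I₁ I₂ : X.IdealSheafData} (V : X.affineOpens) (h₁ : LocGen I₁ V) (h₂ : LocGen I₂ V) :
    Pair ((Scheme.IdealSheafData.inclusion (mul_le_left I₁ I₂)).ker.ideal ⟨_, V.2.preimage (I₁ * I₂).subschemeι⟩)
      ((Scheme.IdealSheafData.inclusion (mul_le_right' I₁ I₂)).ker.ideal ⟨_, V.2.preimage (I₁ * I₂).subschemeι⟩) := by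
  obtain ⟨a, ha, hIa⟩ := h₁
  obtain ⟨b, -, hIb⟩ := h₂
  rw [ker_inclusion, ker_inclusion, hIa, hIb]
  set φ := ((I₁ * I₂).subschemeι.app V.1).hom
  have hker : RingHom.ker φ = Ideal.span {a * b} := by
    rw [(I₁ * I₂).ker_subschemeι_app V, Scheme.IdealSheafData.ideal_mul, Pi.mul_apply, hIa, hIb,
      Ideal.span_singleton_mul_span_singleton]
  rw [Ideal.map_span, Set.image_singleton, Ideal.map_span, Set.image_singleton]
  refine ⟨φ a, Ideal.mem_span_singleton_self _, le_rfl, fun y => ?_⟩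
  obtain ⟨z, rfl⟩ := (I₁ * I₂).subschemeι_app_surjective V y
  constructor
  · intro hy
    have hm : a * z ∈ RingHom.ker φ := by rw [RingHom.mem_ker, map_mul]; exact hy
    rw [hker] at hm
    obtain ⟨c, hc⟩ := Ideal.mem_span_singleton.mp hm
    have hz : z = b * c := (mul_cancel_left_mem_nonZeroDivisors ha).mp (hc.trans (mul_assoc a b c))
    exact Ideal.mem_span_singleton.mpr ⟨φ c, by rw [← map_mul, ← hz]⟩
  · intro hy
    obtain ⟨w, hw⟩ := Ideal.mem_span_singleton.mp hy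
    change φ z = φ b * w at hw
    have h0 : φ (a * b) = 0 := RingHom.mem_ker.mp (hker.ge (Ideal.mem_span_singleton_self _))
    show φ a * φ z = 0
    rw [hw, ← mul_assoc, ← map_mul, h0, zero_mul]

theorem pair_basicOpen {D : Scheme.{u}} (K₁ K₂ : D.IdealSheafData) (U : D.affineOpens) (r : Γ(D, U.1))
    (h : Pair (K₁.ideal U) (K₂.ideal U)) :
    Pair (K₁.ideal (D.affineBasicOpen r)) (K₂.ideal (D.affineBasicOpen r)) := by
  haveI := U.2.isLocalization_basicOpen r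
  have h2 := pair_away r Γ(D, D.basicOpen r) h
  rw [← K₁.map_ideal_basicOpen U r, ← K₂.map_ideal_basicOpen U r]
  exact h2

theorem locPair_of_basicOpen {D : Scheme.{u}} (K₁ K₂ : D.IdealSheafData) (U : D.affineOpens) (r : Γ(D, U.1))
    (h : Pair (K₁.ideal (D.affineBasicOpen r)) (K₂.ideal (D.affineBasicOpen r)))
    (m : Ideal Γ(D, U.1)) [m.IsPrime] (hr : r ∉ m) : LocPair (K₁.ideal U) (K₂.ideal U) m := by
  haveI := U.2.isLocalization_basicOpen r
  have e₁ : (K₁.ideal U).map (algebraMap Γ(D, U.1) Γ(D, D.basicOpen r)) = K₁.ideal (D.affineBasicOpen r) :=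
    K₁.map_ideal_basicOpen U r
  have e₂ : (K₂.ideal U).map (algebraMap Γ(D, U.1) Γ(D, D.basicOpen r)) = K₂.ideal (D.affineBasicOpen r) :=
    K₂.map_ideal_basicOpen U r
  have h' : Pair ((K₁.ideal U).map (algebraMap Γ(D, U.1) Γ(D, D.basicOpen r)))
      ((K₂.ideal U).map (algebraMap Γ(D, U.1) Γ(D, D.basicOpen r))) := by
    rw [e₁, e₂]; exact h
  exact locPair_of_away r h' m hr

theorem locPair_affine {I₁ I₂ : X.IdealSheafData} (hI₁ : BlowUp.IsEffCartierIdeal I₁)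
    (hI₂ : BlowUp.IsEffCartierIdeal I₂) (T : (I₁ * I₂).subscheme.affineOpens)
    (m : Ideal Γ((I₁ * I₂).subscheme, T.1)) [hm : m.IsPrime] :
    LocPair ((Scheme.IdealSheafData.inclusion (mul_le_left I₁ I₂)).ker.ideal T)
      ((Scheme.IdealSheafData.inclusion (mul_le_right' I₁ I₂)).ker.ideal T) m := by
  have hdT : T.2.fromSpec ⟨m, hm⟩ ∈ T.1 := by
    rw [← SetLike.mem_coe, ← T.2.range_fromSpec]; exact ⟨_, rfl⟩
  obtain ⟨V, hxV, -, h₁, h₂⟩ :=
    exists_locGen₂ hI₁ hI₂ (x := (I₁ * I₂).subschemeι (T.2.fromSpec ⟨m, hm⟩)) (O := ⊤) trivial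
  obtain ⟨h, h', e, hdh⟩ :=
    exists_basicOpen_le_affine_inter T.2 (V.2.preimage (I₁ * I₂).subschemeι) _ ⟨hdT, hxV⟩
  have hnm : h ∉ m := (SetLike.ext_iff.mp (T.2.fromSpec_preimage_basicOpen h) ⟨m, hm⟩).mp hdh
  have key := pair_basicOpen _ _ ⟨_, V.2.preimage (I₁ * I₂).subschemeι⟩ h' (pair_chart V h₁ h₂)
  rw [show (I₁ * I₂).subscheme.affineBasicOpen (U := ⟨_, V.2.preimage (I₁ * I₂).subschemeι⟩) h' =
    (I₁ * I₂).subscheme.affineBasicOpen h from Subtype.ext e.symm] at key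
  exact locPair_of_basicOpen _ _ T h key m hnm

theorem rank_quot {D D' S : Scheme.{u}} (g : D ⟶ S) (j : D' ⟶ D) [IsClosedImmersion j] [IsFinite g]
    [IsFinite (j ≫ g)] [Flat (j ≫ g)] {W : S.Opens} (hW : IsAffineOpen W) {y : S} (hy : y ∈ W) :
    letI := H23.CoverPush.alg g W
    Module.Flat Γ(S, W) (Γ(D, g ⁻¹ᵁ W) ⧸ j.ker.ideal ⟨_, hW.preimage g⟩) ∧
    (j ≫ g).finrank y = Module.rankAtStalk (R := Γ(S, W))
      (Γ(D, g ⁻¹ᵁ W) ⧸ j.ker.ideal ⟨_, hW.preimage g⟩) (hW.primeIdealOf ⟨y, hy⟩) := by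
  letI := H23.CoverPush.alg g W
  letI := H23.CoverPush.alg (j ≫ g) W
  have hflat : Module.Flat Γ(S, W) Γ(D', (j ≫ g) ⁻¹ᵁ W) := by
    have := (j ≫ g).flat_appLE hW (hW.preimage (j ≫ g)) le_rfl
    rwa [Scheme.Hom.appLE_eq_app] at this
  let ψ : Γ(D, g ⁻¹ᵁ W) →ₐ[Γ(S, W)] Γ(D', (j ≫ g) ⁻¹ᵁ W) :=
    { (j.app (g ⁻¹ᵁ W)).hom with
      commutes' := fun r => by
        show (j.app (g ⁻¹ᵁ W)).hom ((g.app W).hom r) = ((j ≫ g).app W).hom r
        rfl }
  have hψ : Function.Surjective ψ := j.app_surjective _ (hW.preimage g)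
  have hker : j.ker.ideal ⟨_, hW.preimage g⟩ = RingHom.ker ψ :=
    Scheme.Hom.ker_apply j ⟨_, hW.preimage g⟩
  let E : (Γ(D, g ⁻¹ᵁ W) ⧸ j.ker.ideal ⟨_, hW.preimage g⟩) ≃ₗ[Γ(S, W)] Γ(D', (j ≫ g) ⁻¹ᵁ W) :=
    ((Ideal.quotientEquivAlgOfEq Γ(S, W) hker).trans
      (Ideal.quotientKerAlgEquivOfSurjective (f := ψ) hψ)).toLinearEquiv
  refine ⟨Module.Flat.of_linearEquiv E, ?_⟩
  rw [H23.CoverPush.finrank_eq (j ≫ g) hW hy, Module.rankAtStalk_eq_of_equiv E]

theorem add_pointwise [SmoothOfRelativeDimension 1 f] {I₁ I₂ : X.IdealSheafData}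
    (h₁ : Mor2.IsFinLocFree (I₁.subschemeι ≫ f)) (h₂ : Mor2.IsFinLocFree (I₂.subschemeι ≫ f)) :
    Mor2.IsFinLocFree ((I₁ * I₂).subschemeι ≫ f) ∧ ∀ y : S,
      ((I₁ * I₂).subschemeι ≫ f).finrank y =
        (I₁.subschemeι ≫ f).finrank y + (I₂.subschemeι ≫ f).finrank y := by
  have c₁ := cartier_of_finLocFree f h₁
  have c₂ := cartier_of_finLocFree f h₂
  obtain ⟨hfin₁, hflat₁, -⟩ := h₁
  obtain ⟨hfin₂, hflat₂, -⟩ := h₂
  obtain ⟨c, hflat⟩ := flat_mul f c₁ c₂ hflat₁ hflat₂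
  obtain ⟨hq, hp⟩ := lqf_lfp_of_cartier f c hflat
  set g := (I₁ * I₂).subschemeι ≫ f
  set j₁ := Scheme.IdealSheafData.inclusion (mul_le_left I₁ I₂)
  set j₂ := Scheme.IdealSheafData.inclusion (mul_le_right' I₁ I₂)
  have e₁ : j₁ ≫ g = I₁.subschemeι ≫ f := Scheme.IdealSheafData.inclusion_subschemeι_assoc _ _
  have e₂ : j₂ ≫ g = I₂.subschemeι ≫ f := Scheme.IdealSheafData.inclusion_subschemeι_assoc _ _
  haveI i₁ : IsClosedImmersion j₁ := by
    haveI : IsClosedImmersion (j₁ ≫ (I₁ * I₂).subschemeι) := by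
      rw [Scheme.IdealSheafData.inclusion_subschemeι]; infer_instance
    exact IsClosedImmersion.of_comp _ (I₁ * I₂).subschemeι
  haveI i₂ : IsClosedImmersion j₂ := by
    haveI : IsClosedImmersion (j₂ ≫ (I₁ * I₂).subschemeι) := by
      rw [Scheme.IdealSheafData.inclusion_subschemeι]; infer_instance
    exact IsClosedImmersion.of_comp _ (I₁ * I₂).subschemeι
  haveI : IsFinite (coprod.desc j₁ j₂) := inferInstance
  haveI : Surjective (coprod.desc j₁ j₂) := ⟨fun d => by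
    have hd : (I₁ * I₂).subschemeι d ∈ ((I₁ * I₂).support : Set X) := by
      rw [← Scheme.IdealSheafData.range_subschemeι]; exact ⟨d, rfl⟩
    rw [Scheme.IdealSheafData.support_mul] at hd
    rcases hd with hd | hd
    · rw [← Scheme.IdealSheafData.range_subschemeι] at hd
      obtain ⟨z, hz⟩ := hd
      refine ⟨(coprod.inl : I₁.subscheme ⟶ I₁.subscheme ⨿ I₂.subscheme) z, ?_⟩
      refine (I₁ * I₂).subschemeι.isClosedEmbedding.injective ?_
      rw [← Scheme.Hom.comp_apply, ← Scheme.Hom.comp_apply, coprod.inl_desc_assoc,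
        Scheme.IdealSheafData.inclusion_subschemeι]
      exact hz
    · rw [← Scheme.IdealSheafData.range_subschemeι] at hd
      obtain ⟨z, hz⟩ := hd
      refine ⟨(coprod.inr : I₂.subscheme ⟶ I₁.subscheme ⨿ I₂.subscheme) z, ?_⟩
      refine (I₁ * I₂).subschemeι.isClosedEmbedding.injective ?_
      rw [← Scheme.Hom.comp_apply, ← Scheme.Hom.comp_apply, coprod.inr_desc_assoc,
        Scheme.IdealSheafData.inclusion_subschemeι]
      exact hz⟩
  haveI : IsFinite (coprod.desc j₁ j₂ ≫ g) := by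
    rw [show coprod.desc j₁ j₂ ≫ g = coprod.desc (I₁.subschemeι ≫ f) (I₂.subschemeι ≫ f) by
      ext : 1 <;> simp [e₁, e₂]]
    haveI := hfin₁; haveI := hfin₂
    infer_instance
  haveI := hp
  haveI := hq
  haveI : IsProper g := QCoh.isProper_of_comp_surjective (coprod.desc j₁ j₂) g
  haveI : IsFinite g := IsFinite.of_isProper_of_locallyQuasiFinite g
  haveI := hflat
  refine ⟨⟨‹_›, hflat, hp⟩, fun y => ?_⟩
  obtain ⟨_, ⟨W, hW, rfl⟩, hy, -⟩ :=
    S.isBasis_affineOpens.exists_subset_of_mem_open (Set.mem_univ y) isOpen_univ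
  haveI : IsFinite (j₁ ≫ g) := by rw [e₁]; exact hfin₁
  haveI : Flat (j₁ ≫ g) := by rw [e₁]; exact hflat₁
  haveI : IsFinite (j₂ ≫ g) := by rw [e₂]; exact hfin₂
  haveI : Flat (j₂ ≫ g) := by rw [e₂]; exact hflat₂
  letI := H23.CoverPush.alg g W
  obtain ⟨f₁, r₁⟩ := rank_quot g j₁ hW hy
  obtain ⟨f₂, r₂⟩ := rank_quot g j₂ hW hy
  haveI : Module.Finite Γ(S, W) Γ((I₁ * I₂).subscheme, g ⁻¹ᵁ W) := g.finite_app _ hW
  haveI : Module.Flat Γ(S, W) Γ((I₁ * I₂).subscheme, g ⁻¹ᵁ W) := by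
    have := g.flat_appLE hW (hW.preimage g) le_rfl
    rwa [Scheme.Hom.appLE_eq_app] at this
  rw [H23.CoverPush.finrank_eq g hW hy]
  haveI := f₁
  haveI := f₂
  rw [rankAtStalk_add_of_locPair (j₁.ker.ideal ⟨_, hW.preimage g⟩) (j₂.ker.ideal ⟨_, hW.preimage g⟩)
    (fun m hm => locPair_affine c₁ c₂ ⟨_, hW.preimage g⟩ m (hm := hm)) (hW.primeIdealOf ⟨y, hy⟩)]
  simp only [← r₁, ← r₂, e₁, e₂]

theorem add [SmoothOfRelativeDimension 1 f] {I₁ I₂ : X.IdealSheafData} {d₁ d₂ : ℕ}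
    (h₁ : Mor2.IsFinLocFreeOfDeg d₁ (I₁.subschemeι ≫ f)) (h₂ : Mor2.IsFinLocFreeOfDeg d₂ (I₂.subschemeι ≫ f)) :
    Mor2.IsFinLocFreeOfDeg (d₁ + d₂) ((I₁ * I₂).subschemeι ≫ f) := by
  obtain ⟨h, hy⟩ := add_pointwise f h₁.1 h₂.1
  exact ⟨h, fun y => by rw [hy y, h₁.2 y, h₂.2 y]⟩

end Groth.Agent.RelCurve
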