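import Groth.Agent.RelCurve.Fibre
import Groth.Agent.S19195
import Mathlib.RingTheory.Flat.EquationalCriterion
import Mathlib.RingTheory.LocalRing.ResidueField.Fiber

/-! Finite flat closed subschemes of a smooth relative curve are divisors: affine core. -/

universe u

set_option linter.style.haveILetI false
set_option linter.unusedSectionVars false

open TensorProduct

set_option maxHeartbeats 1000000

namespace Groth.Agent.RelCurve

variable {A B : Type u} [CommRing A] [CommRing B] [Algebra A B]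

/-- Flatness of the quotient: `I ∩ pB = pI`. -/
theorem mem_mul_of_flat (I : Ideal B) [Module.Flat A (B ⧸ I)] (p : Ideal A) {x : B} (hxI : x ∈ I)
    (hxp : x ∈ p.map (algebraMap A B)) : x ∈ p.map (algebraMap A B) * I := by
  classical
  obtain ⟨ι, s, c, hc, hxc⟩ : ∃ (ι : Type u) (s : Finset ι) (c : ι → A × B),
      (∀ i ∈ s, (c i).1 ∈ p) ∧ x = ∑ i ∈ s, algebraMap A B (c i).1 * (c i).2 := by
    rw [Ideal.map, ← Submodule.restrictScalars_mem B, Submodule.restrictScalars_self] at hxp
    obtain ⟨l, hl, hlx⟩ := (Finsupp.mem_span_image_iff_linearCombination B).mp hxp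
    refine ⟨A, l.support, fun i => (i, l i), fun i hi => hl hi, ?_⟩
    rw [← hlx, Finsupp.linearCombination_apply, Finsupp.sum]
    exact Finset.sum_congr rfl fun i _ => mul_comm _ _
  obtain ⟨l, c', hc', hxc'⟩ : ∃ (l : ℕ) (c' : Fin l → A × B), (∀ i, (c' i).1 ∈ p) ∧
      x = ∑ i, algebraMap A B (c' i).1 * (c' i).2 := by
    refine ⟨s.card, fun i => c (s.equivFin.symm i), fun i => hc _ (s.equivFin.symm i).2, ?_⟩
    rw [hxc, ← Finset.sum_coe_sort s]
    exact (Equiv.sum_comp s.equivFin.symm (fun i : s => algebraMap A B (c i.1).1 * (c i.1).2)).symm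
  have hrel : ∑ i, (c' i).1 • Ideal.Quotient.mk I (c' i).2 = 0 := by
    simp only [Algebra.smul_def, ← Ideal.Quotient.mk_algebraMap, ← map_mul, ← map_sum, ← hxc']
    exact Ideal.Quotient.eq_zero_iff_mem.mpr hxI
  obtain ⟨n, a, y, hy, ha⟩ := Module.Flat.iff_forall_isTrivialRelation.mp ‹_› hrel
  choose z hz using fun j => Ideal.Quotient.mk_surjective (y j)
  have hdiff : ∀ i, (c' i).2 - ∑ j, algebraMap A B (a i j) * z j ∈ I := fun i => by
    rw [← Ideal.Quotient.eq]
    refine (hy i).trans ?_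
    rw [map_sum]
    exact Finset.sum_congr rfl fun j _ => by
      rw [map_mul, hz, Algebra.smul_def, Ideal.Quotient.mk_algebraMap]
  have hxe : x = ∑ i, algebraMap A B (c' i).1 * ((c' i).2 - ∑ j, algebraMap A B (a i j) * z j) := by
    have h0 : ∑ i, algebraMap A B (c' i).1 * ∑ j, algebraMap A B (a i j) * z j = 0 := by
      simp only [Finset.mul_sum, ← mul_assoc, ← map_mul]
      rw [Finset.sum_comm]
      refine Finset.sum_eq_zero fun j _ => ?_
      rw [← Finset.sum_mul, ← map_sum]
      rw [show ∑ i, (c' i).1 * a i j = 0 from ha j, map_zero, zero_mul]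
    simp only [mul_sub, Finset.sum_sub_distrib, h0, sub_zero]
    exact hxc'
  rw [hxe]
  exact Submodule.sum_mem _ fun i _ =>
    Ideal.mul_mem_mul (Ideal.mem_map_of_mem _ (hc' i)) (hdiff i)

attribute [local instance] Algebra.TensorProduct.rightAlgebra in
theorem exists_smul_mem_of_tmul_eq_zero (p : Ideal A) [p.IsPrime] {b : B}
    (hb : (1 : p.ResidueField) ⊗ₜ[A] b = 0) :
    ∃ s : A, s ∉ p ∧ algebraMap A B s * b ∈ p.map (algebraMap A B) := by
  have h := congrArg (Ideal.Fiber.algEquivAux₁ (S := B) p) hb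
  rw [map_zero] at h
  have hb' : (1 : p.ResidueField) ⊗ₜ[A] b = algebraMap B (p.Fiber B) b := rfl
  rw [hb', AlgEquiv.commutes, IsScalarTower.algebraMap_apply B (Localization (Algebra.algebraMapSubmonoid B p.primeCompl)),
    Ideal.Quotient.algebraMap_eq, Ideal.Quotient.eq_zero_iff_mem,
    IsLocalization.algebraMap_mem_map_algebraMap_iff (Algebra.algebraMapSubmonoid B p.primeCompl)] at h
  obtain ⟨_, ⟨s, hs, rfl⟩, hsb⟩ := h
  exact ⟨s, hs, hsb⟩

/-- The image of an ideal in the fibre. -/
noncomputable abbrev fibreIdeal (I : Ideal B) (p : Ideal A) [p.IsPrime] : Ideal (p.Fiber B) :=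
  I.map (Algebra.TensorProduct.includeRight : B →ₐ[A] p.ResidueField ⊗[A] B).toRingHom

theorem mem_fibreIdeal {I : Ideal B} {p : Ideal A} [p.IsPrime] {y : p.Fiber B}
    (hy : y ∈ fibreIdeal I p) : ∃ r ∉ p, ∃ x ∈ I, r • y = (1 : p.ResidueField) ⊗ₜ[A] x := by
  rw [fibreIdeal, Ideal.map] at hy
  induction hy using Submodule.span_induction with
  | mem z hz =>
    obtain ⟨x, hx, rfl⟩ := hz
    exact ⟨1, fun h => ‹p.IsPrime›.ne_top ((Ideal.eq_top_iff_one p).mpr h), x, hx, one_smul _ _⟩
  | zero => exact ⟨1, fun h => ‹p.IsPrime›.ne_top ((Ideal.eq_top_iff_one p).mpr h), 0, zero_mem _,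
      by rw [smul_zero, TensorProduct.tmul_zero]⟩
  | add y z _ _ hy hz =>
    obtain ⟨r, hr, x, hx, e⟩ := hy
    obtain ⟨r', hr', x', hx', e'⟩ := hz
    refine ⟨r * r', fun h => (‹p.IsPrime›.mem_or_mem h).elim hr hr', algebraMap A B r' * x + algebraMap A B r * x',
      add_mem (Ideal.mul_mem_left _ _ hx) (Ideal.mul_mem_left _ _ hx'), ?_⟩
    rw [smul_add, TensorProduct.tmul_add, ← Algebra.smul_def, ← Algebra.smul_def,
      TensorProduct.tmul_smul, TensorProduct.tmul_smul, ← e, ← e', mul_comm r r', mul_smul, mul_comm r' r,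
      mul_smul]
  | smul w y _ hy =>
    obtain ⟨r, hr, x, hx, e⟩ := hy
    obtain ⟨t, ht, b, hb⟩ := Ideal.Fiber.exists_smul_eq_one_tmul p w
    refine ⟨t * r, fun h => (‹p.IsPrime›.mem_or_mem h).elim ht hr, b * x, Ideal.mul_mem_left _ _ hx, ?_⟩
    rw [smul_eq_mul, ← smul_mul_smul_comm, hb, e, Algebra.TensorProduct.tmul_mul_tmul, one_mul]

variable [Algebra.IsStandardSmoothOfRelativeDimension 1 A B]

theorem fibre_quotient_finite (I : Ideal B) (p : Ideal A) [p.IsPrime]
    (h : Module.Finite p.ResidueField (p.Fiber (B ⧸ I))) :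
    Module.Finite p.ResidueField (p.Fiber B ⧸ fibreIdeal I p) := by
  let m : p.Fiber B →ₐ[p.ResidueField] p.Fiber (B ⧸ I) :=
    Algebra.TensorProduct.map (AlgHom.id p.ResidueField p.ResidueField) (Ideal.Quotient.mkₐ A I)
  have hker : RingHom.ker m = fibreIdeal I p := by
    rw [Algebra.TensorProduct.map_ker (AlgHom.id p.ResidueField p.ResidueField) (Ideal.Quotient.mkₐ A I)
      Function.surjective_id (Ideal.Quotient.mkₐ_surjective A I)]
    rw [show RingHom.ker (AlgHom.id p.ResidueField p.ResidueField) = ⊥ from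
      (RingHom.injective_iff_ker_eq_bot _).mp Function.injective_id, Ideal.map_bot, bot_sup_eq,
      show RingHom.ker (Ideal.Quotient.mkₐ A I) = I from Ideal.mk_ker]
    rfl
  let l : (p.Fiber B ⧸ fibreIdeal I p) →ₐ[p.ResidueField] p.Fiber (B ⧸ I) :=
    Ideal.Quotient.liftₐ (fibreIdeal I p) m fun x hx => RingHom.mem_ker.mp (hker ▸ hx)
  have hl : Function.Injective l :=
    RingHom.lift_injective_of_ker_le_ideal _ (f := m.toRingHom) (fun x hx => RingHom.mem_ker.mp (hker ▸ hx)) hker.le
  exact Module.Finite.of_injective l.toLinearMap hl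

theorem exists_local_gen (I : Ideal B) (hI : I.FG) [Module.Flat A (B ⧸ I)] (q : Ideal B) [q.IsPrime] :
    ∃ f ∉ q, ∃ a ∈ I, I.map (algebraMap B (Localization.Away f)) =
      Ideal.span {algebraMap B (Localization.Away f) a} := by
  classical
  haveI := Algebra.IsStandardSmoothOfRelativeDimension.isStandardSmooth (R := A) (S := B) (n := 1)
  set p : Ideal A := q.under A
  set Qp : PrimeSpectrum (p.Fiber B) :=
    PrimeSpectrum.primesOverOrderIsoFiber A B p ⟨q, inferInstance, ⟨rfl⟩⟩
  have hQ : Qp.asIdeal.comap (Algebra.TensorProduct.includeRight : B →ₐ[A] p.ResidueField ⊗[A] B) = q := by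
    rw [← PrimeSpectrum.coe_primesOverOrderIsoFiber_symm_apply p Qp]
    simp [Qp]
  have hunit : ∀ r : A, r ∉ p → algebraMap A (p.Fiber B) r ∉ Qp.asIdeal := fun r hr h => by
    refine hr ?_
    show algebraMap A B r ∈ q
    rw [← hQ, Ideal.mem_comap, AlgHom.commutes]
    exact h
  set R := Localization.AtPrime Qp.asIdeal
  obtain ⟨g, hg, hgen⟩ := exists_gen_atPrime p.ResidueField (p.Fiber B) (fibreIdeal I p) Qp.asIdeal
  obtain ⟨r, hr, a, haI, ha⟩ := mem_fibreIdeal hg
  set Bq := Localization.AtPrime q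
  -- generation modulo `p`
  have hmod : ∀ x ∈ I, ∃ t ∉ q, t * x ∈ Ideal.span {a} ⊔ p.map (algebraMap A B) * I := by
    intro x hx
    have h1 : algebraMap (p.Fiber B) R ((1 : p.ResidueField) ⊗ₜ[A] x) ∈ Ideal.span {algebraMap (p.Fiber B) R g} :=
      hgen ▸ Ideal.mem_map_of_mem _ (Ideal.mem_map_of_mem _ hx)
    obtain ⟨w, hw⟩ := Ideal.mem_span_singleton.mp h1
    obtain ⟨⟨b, ⟨s, hs⟩⟩, rfl⟩ := IsLocalization.mk'_surjective Qp.asIdeal.primeCompl w
    have h2 : algebraMap (p.Fiber B) R (s * ((1 : p.ResidueField) ⊗ₜ[A] x)) =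
        algebraMap (p.Fiber B) R (g * b) := by
      rw [map_mul, map_mul, hw, mul_left_comm,
        IsLocalization.mk'_spec' R b (⟨s, hs⟩ : Qp.asIdeal.primeCompl)]
    obtain ⟨⟨s', hs'⟩, h3⟩ := (IsLocalization.eq_iff_exists Qp.asIdeal.primeCompl R).mp h2
    obtain ⟨r₁, hr₁, c₁, hc₁⟩ := Ideal.Fiber.exists_smul_eq_one_tmul p (s' * s)
    obtain ⟨r₂, hr₂, c₂, hc₂⟩ := Ideal.Fiber.exists_smul_eq_one_tmul p (s' * b)
    have hc₁q : c₁ ∉ q := fun h => by
      rw [← hQ, Ideal.mem_comap, Algebra.TensorProduct.includeRight_apply, ← hc₁, Algebra.smul_def] at h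
      rcases Qp.isPrime.mem_or_mem h with h | h
      · exact hunit r₁ hr₁ h
      · exact (Qp.isPrime.mem_or_mem h).elim hs' hs
    have h4 : (1 : p.ResidueField) ⊗ₜ[A] (algebraMap A B (r * r₂) * c₁ * x - algebraMap A B r₁ * c₂ * a) = 0 := by
      have key : algebraMap A (p.Fiber B) (r * r₂) * ((1 : p.ResidueField) ⊗ₜ[A] c₁ * (1 : p.ResidueField) ⊗ₜ[A] x) =
          algebraMap A (p.Fiber B) r₁ * ((1 : p.ResidueField) ⊗ₜ[A] c₂ * (1 : p.ResidueField) ⊗ₜ[A] a) := by
        rw [← hc₁, ← hc₂, ← ha]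
        simp only [Algebra.smul_def, map_mul]
        linear_combination (algebraMap A (p.Fiber B) r * algebraMap A (p.Fiber B) r₂ *
          algebraMap A (p.Fiber B) r₁) * h3
      have hal : ∀ t : A, algebraMap A (p.Fiber B) t =
          (Algebra.TensorProduct.includeRight : B →ₐ[A] p.ResidueField ⊗[A] B) (algebraMap A B t) :=
        fun t => (AlgHom.commutes _ t).symm
      rw [hal, hal] at key
      simp only [Algebra.TensorProduct.includeRight_apply, Algebra.TensorProduct.tmul_mul_tmul, one_mul,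
        ← mul_assoc] at key
      rw [TensorProduct.tmul_sub, key, sub_self]
    obtain ⟨t, ht, hmem⟩ := exists_smul_mem_of_tmul_eq_zero p h4
    refine ⟨algebraMap A B t * (algebraMap A B (r * r₂) * c₁), fun h => ?_, ?_⟩
    · have hnotp : ∀ t, t ∉ p → algebraMap A B t ∉ q := fun t ht => ht
      rcases ‹q.IsPrime›.mem_or_mem h with h | h
      · exact hnotp t ht h
      rcases ‹q.IsPrime›.mem_or_mem h with h | h
      · exact hnotp _ (fun h' => (Ideal.IsPrime.mem_or_mem inferInstance h').elim hr hr₂) h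
      · exact hc₁q h
    · rw [show algebraMap A B t * (algebraMap A B (r * r₂) * c₁) * x =
        algebraMap A B t * (algebraMap A B r₁ * c₂ * a) +
          algebraMap A B t * (algebraMap A B (r * r₂) * c₁ * x - algebraMap A B r₁ * c₂ * a) by ring]
      refine Submodule.add_mem_sup (Ideal.mul_mem_left _ _ (Ideal.mul_mem_left _ _ (Ideal.mem_span_singleton_self a)))
        (mem_mul_of_flat I p ?_ hmem)
      exact Ideal.mul_mem_left _ _ (Submodule.sub_mem _ (Ideal.mul_mem_left _ _ hx) (Ideal.mul_mem_left _ _ haI))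
  set φ := algebraMap B Bq
  have hNak : I.map φ ≤ Ideal.span {φ a} := by
    refine Submodule.le_of_le_smul_of_le_jacobson_bot (I := IsLocalRing.maximalIdeal Bq)
      (hI.map φ) (IsLocalRing.jacobson_eq_maximalIdeal ⊥ bot_ne_top).ge ?_
    rw [Ideal.map_le_iff_le_comap]
    intro x hx
    obtain ⟨t, ht, hmem⟩ := hmod x hx
    rw [Ideal.mem_comap]
    have hu : IsUnit (φ t) := IsLocalization.map_units (M := q.primeCompl) Bq ⟨t, ht⟩
    refine (Ideal.unit_mul_mem_iff_mem _ hu).mp ?_
    have h := Ideal.mem_map_of_mem φ hmem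
    rw [Ideal.map_sup, Ideal.map_span, Set.image_singleton, Ideal.map_mul] at h
    rw [← map_mul]
    refine (sup_le_sup_left (Ideal.mul_mono_left (I := (Ideal.map (algebraMap A B) p).map φ) (J := IsLocalRing.maximalIdeal Bq) (K := I.map φ) ?_) (Ideal.span {φ a})) h
    rw [Ideal.map_le_iff_le_comap, Ideal.map_le_iff_le_comap]
    intro y hy
    exact (IsLocalization.AtPrime.to_map_mem_maximal_iff Bq q _).mpr hy
  obtain ⟨G, hG⟩ := hI
  have hspread : ∀ x ∈ G, ∃ t ∉ q, t * x ∈ Ideal.span {a} := fun x hx => by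
    have h := hNak (Ideal.mem_map_of_mem φ (hG ▸ Ideal.subset_span hx))
    rw [← Set.image_singleton, ← Ideal.map_span,
      IsLocalization.algebraMap_mem_map_algebraMap_iff q.primeCompl] at h
    exact h
  choose! t ht htx using hspread
  refine ⟨∏ x ∈ G, t x, ?_, a, haI, ?_⟩
  · exact Finset.prod_induction t (· ∉ q) (fun x y hx hy h => (‹q.IsPrime›.mem_or_mem h).elim hx hy)
      (fun h => ‹q.IsPrime›.ne_top ((Ideal.eq_top_iff_one q).mpr h)) ht
  · set f := ∏ x ∈ G, t x
    refine le_antisymm ?_ ((Ideal.span_singleton_le_iff_mem _).mpr (Ideal.mem_map_of_mem _ haI))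
    conv_lhs => rw [← hG, Ideal.map_span]
    rw [Ideal.span_le]
    rintro _ ⟨x, hx, rfl⟩
    have hu : IsUnit (algebraMap B (Localization.Away f) (t x)) :=
      isUnit_of_dvd_unit (map_dvd _ (Finset.dvd_prod_of_mem t hx)) (IsLocalization.Away.algebraMap_isUnit f)
    refine (Ideal.unit_mul_mem_iff_mem _ hu).mp ?_
    rw [← map_mul, ← Set.image_singleton, ← Ideal.map_span]
    exact Ideal.mem_map_of_mem _ (htx x hx)

theorem ass_subset_minimal {R : Type*} [CommRing R] [IsReduced R] {P : Ideal R}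
    (hP : P ∈ associatedPrimes R R) : P ∈ minimalPrimes R := by
  obtain ⟨hprime, x, hx⟩ := hP
  have hx0 : x ≠ 0 := fun e => hprime.ne_top (by
    rw [hx, e, Ideal.eq_top_iff_one]
    exact Ideal.le_radical (by simp [Submodule.mem_colon_singleton]))
  have hex : ∃ Q ∈ minimalPrimes R, x ∉ Q := by
    by_contra hall
    push Not at hall
    refine hx0 ?_
    have : x ∈ sInf ((⊥ : Ideal R).minimalPrimes) := Submodule.mem_sInf.mpr hall
    rw [Ideal.sInf_minimalPrimes] at this
    change x ∈ nilradical R at this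
    rw [nilradical_eq_zero] at this
    simpa using this
  obtain ⟨Q, hQ, hxQ⟩ := hex
  haveI := hQ.1.1
  have hPQ : P ≤ Q := fun b hb => by
    rw [hx] at hb
    obtain ⟨n, hn⟩ := hb
    rw [Submodule.mem_colon_singleton, Submodule.mem_bot, smul_eq_mul] at hn
    exact Ideal.IsPrime.mem_of_pow_mem inferInstance n
      ((Ideal.IsPrime.mem_or_mem inferInstance (hn ▸ Q.zero_mem)).resolve_right hxQ)
  exact (le_antisymm hPQ (hQ.2 ⟨hprime, bot_le⟩ hPQ)) ▸ hQ

theorem gen_mem_nonZeroDivisors (I : Ideal B) (hfin : ∀ (p : Ideal A) [p.IsPrime],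
      Module.Finite p.ResidueField (p.Fiber (B ⧸ I)))
    (f : B) {a : B} (hgen : I.map (algebraMap B (Localization.Away f)) =
      Ideal.span {algebraMap B (Localization.Away f) a}) :
    algebraMap B (Localization.Away f) a ∈ nonZeroDivisors (Localization.Away f) := by
  classical
  set B' := Localization.Away f
  haveI : Algebra.IsStandardSmoothOfRelativeDimension 0 B B' :=
    Algebra.IsStandardSmoothOfRelativeDimension.localization_away f
  haveI : Algebra.IsStandardSmoothOfRelativeDimension 1 A B' := by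
    have := Algebra.IsStandardSmoothOfRelativeDimension.trans (n := 1) (m := 0) (R := A) (S := B) (T := B')
    simpa using this
  haveI := Algebra.IsStandardSmoothOfRelativeDimension.isStandardSmooth (R := A) (S := B') (n := 1)
  haveI := Algebra.IsStandardSmoothOfRelativeDimension.isStandardSmooth (R := A) (S := B) (n := 1)
  haveI : Module.Flat A B := inferInstance
  haveI : Module.Flat B B' := IsLocalization.flat B' (Submonoid.powers f)
  haveI : Module.Flat A B' := Module.Flat.trans A B B'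
  suffices h : IsSMulRegular B' (algebraMap B B' a) by
    exact mem_nonZeroDivisors_iff_right.mpr fun x hx => h (by simpa [mul_comm] using hx)
  -- the fibre ring in the order used by the criterion
  have hfib : ∀ (p : Ideal A) [p.IsPrime],
      IsNoetherianRing (B' ⊗[A] p.ResidueField) ∧ IsReduced (B' ⊗[A] p.ResidueField) ∧
      ∀ P ∈ minimalPrimes (B' ⊗[A] p.ResidueField), algebraMap B B' a ⊗ₜ[A] (1 : p.ResidueField) ∉ P := by
    intro p _
    let e : (B' ⊗[A] p.ResidueField) ≃+* p.Fiber B' :=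
      (Algebra.TensorProduct.comm A B' p.ResidueField).toRingEquiv
    haveI := RelCurve.noetherian p.ResidueField (p.Fiber B')
    haveI := RelCurve.isReduced p.ResidueField (p.Fiber B')
    refine ⟨isNoetherianRing_of_ringEquiv _ e.symm, isReduced_of_injective e e.injective, fun P hP haP => ?_⟩
    haveI : P.IsPrime := hP.1.1
    let P' : Ideal (p.Fiber B') := P.comap e.symm
    haveI : P'.IsPrime := Ideal.comap_isPrime _ _
    have hP' : P' ∈ minimalPrimes (p.Fiber B') := by
      refine ⟨⟨inferInstance, bot_le⟩, fun Q hQ hQP => ?_⟩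
      haveI := hQ.1
      have h := hP.2 (y := Q.comap e) ⟨Ideal.comap_isPrime _ _, bot_le⟩ fun z hz => by
        simpa [P'] using hQP hz
      intro z hz
      have := h (show e.symm z ∈ P from hz)
      rw [Ideal.mem_comap, RingEquiv.apply_symm_apply] at this
      exact this
    let m : p.Fiber B →ₐ[p.ResidueField] p.Fiber B' :=
      Algebra.TensorProduct.map (AlgHom.id p.ResidueField p.ResidueField) (IsScalarTower.toAlgHom A B B')
    let P0 : Ideal (p.Fiber B) := P'.comap m
    haveI : P0.IsPrime := Ideal.comap_isPrime _ _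
    have hIP : fibreIdeal I p ≤ P0 := by
      rw [fibreIdeal, Ideal.map_le_iff_le_comap]
      intro x hx
      obtain ⟨y, hy⟩ := Ideal.mem_span_singleton.mp (hgen ▸ Ideal.mem_map_of_mem (algebraMap B B') hx)
      show e.symm (m ((1 : p.ResidueField) ⊗ₜ[A] x)) ∈ P
      have : e.symm (m ((1 : p.ResidueField) ⊗ₜ[A] x)) =
          (algebraMap B B' a * y) ⊗ₜ[A] (1 : p.ResidueField) := by
        simp [m, e, hy]
        rfl
      rw [this, ← one_mul (1 : p.ResidueField), ← Algebra.TensorProduct.tmul_mul_tmul]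
      exact Ideal.mul_mem_right _ _ haP
    have hmax : P0.IsMaximal :=
      isMaximal_of_le p.ResidueField (p.Fiber B) hIP (fibre_quotient_finite I p (hfin p))
    refine not_isMaximal_of_minimal p.ResidueField (p.Fiber B') P' hP' ⟨⟨Ideal.IsPrime.ne_top', fun J hJ => ?_⟩⟩
    by_contra hJt
    obtain ⟨M, hM, hJM⟩ := Ideal.exists_le_maximal J hJt
    have hMP0 : M.comap m = P0 :=
      (hmax.eq_of_le (Ideal.comap_isPrime m M).ne_top (Ideal.comap_mono (hJ.le.trans hJM))).symm
    refine absurd (le_trans hJM ?_) hJ.not_ge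
    intro z hz
    obtain ⟨r, hr, b', hb'⟩ := Ideal.Fiber.exists_smul_eq_one_tmul p z
    obtain ⟨⟨b, s⟩, hbs⟩ := IsLocalization.surj (Submonoid.powers f) b'
    have hu : IsUnit ((1 : p.ResidueField) ⊗ₜ[A] algebraMap B B' s.1) :=
      (IsLocalization.map_units (M := Submonoid.powers f) B' s).map
        (Algebra.TensorProduct.includeRight : B' →ₐ[A] p.Fiber B')
    have hru : IsUnit (algebraMap A (p.Fiber B') r) := by
      rw [IsScalarTower.algebraMap_apply A p.ResidueField (p.Fiber B')]
      exact (isUnit_iff_ne_zero.mpr (by rwa [ne_eq, Ideal.algebraMap_residueField_eq_zero])).map _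
    have hmb : m ((1 : p.ResidueField) ⊗ₜ[A] b) =
        algebraMap A (p.Fiber B') r * z * ((1 : p.ResidueField) ⊗ₜ[A] algebraMap B B' s.1) := by
      rw [← Algebra.smul_def, hb', Algebra.TensorProduct.tmul_mul_tmul, one_mul, hbs]
      simp [m]
    have h0 : (1 : p.ResidueField) ⊗ₜ[A] b ∈ M.comap m := by
      rw [Ideal.mem_comap, hmb]
      exact Ideal.mul_mem_right _ _ (Ideal.mul_mem_left _ _ hz)
    rw [hMP0, Ideal.mem_comap, hmb] at h0
    exact (Ideal.unit_mul_mem_iff_mem _ hru).mp ((Ideal.mul_unit_mem_iff_mem _ hu).mp h0)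
  -- the criterion
  have hann : ∀ (p : Ideal A) [p.IsPrime],
      (Module.annihilator (B' ⊗[A] p.ResidueField) ((B' ⊗[A] p.ResidueField) ⊗[B'] B')).minimalPrimes =
        minimalPrimes (B' ⊗[A] p.ResidueField) := by
    intro p _
    rw [(AlgebraTensorModule.rid B' (B' ⊗[A] p.ResidueField) (B' ⊗[A] p.ResidueField)).annihilator_eq,
      Module.annihilator_eq_bot.mpr inferInstance]
  refine S19195.result A B' B' (fun p hp => ?_) (algebraMap B B' a) (fun p hp P hP => ?_)
  · obtain ⟨h1, h2, -⟩ := hfib p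
    rw [hann p, LinearEquiv.AssociatedPrimes.eq (AlgebraTensorModule.rid B' (B' ⊗[A] p.ResidueField) (B' ⊗[A] p.ResidueField))]
    intro P hP
    exact ass_subset_minimal hP
  · exact (hfib p).2.2 P (hann p ▸ hP)

end Groth.Agent.RelCurve
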