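import Groth.Agent.SmoothDim.Basic
import Groth.Agent.GrpSchLib.SmoothRegular
import Groth.Agent.DimFormula.DedekindFlat

/-! Smooth algebras of relative dimension one over a field. -/

universe u

set_option linter.style.haveILetI false

namespace Groth.Agent.RelCurve

variable (k F : Type u) [Field k] [CommRing F] [Algebra k F]
  [Algebra.IsStandardSmoothOfRelativeDimension 1 k F]

include k

theorem noetherian : IsNoetherianRing F :=
  haveI := Algebra.IsStandardSmoothOfRelativeDimension.isStandardSmooth (R := k) (S := F) (n := 1)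
  Algebra.FiniteType.isNoetherianRing k F

theorem isReduced : IsReduced F := by
  haveI := Algebra.IsStandardSmoothOfRelativeDimension.isStandardSmooth (R := k) (S := F) (n := 1)
  refine isReduced_ofLocalizationMaximal F fun Q hQ => ?_
  haveI := GrpSchLib.regular_of_isStandardSmooth k F Q
  haveI := RegLoc6.isDomain_of_isRegularLocalRing (Localization.AtPrime Q)
  infer_instance

theorem not_isMaximal_of_minimal (P : Ideal F) (hP : P ∈ minimalPrimes F) : ¬ P.IsMaximal := by
  classical
  intro hmax
  haveI : P.IsPrime := hP.1.1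
  haveI := noetherian k F
  have hfin := minimalPrimes.finite_of_isNoetherianRing F
  set s := hfin.toFinset.erase P
  have hnot : ¬ s.inf id ≤ P := by
    rw [Ideal.IsPrime.inf_le' inferInstance]
    rintro ⟨Q, hQ, hQP⟩
    obtain ⟨hne, hQ'⟩ := Finset.mem_erase.mp hQ
    rw [Set.Finite.mem_toFinset] at hQ'
    exact hne (le_antisymm hQP (hP.2 hQ'.1 hQP))
  obtain ⟨f, hfs, hfP⟩ := SetLike.not_le_iff_exists.mp hnot
  set T := Localization.Away f
  haveI : Algebra.IsStandardSmoothOfRelativeDimension 0 F T :=
    Algebra.IsStandardSmoothOfRelativeDimension.localization_away f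
  haveI : Algebra.IsStandardSmoothOfRelativeDimension 1 k T := by
    have := Algebra.IsStandardSmoothOfRelativeDimension.trans (n := 1) (m := 0) (R := k) (S := F) (T := T)
    simpa using this
  have hdisj : Disjoint (Submonoid.powers f : Set F) (P : Set F) := by
    rw [Ideal.disjoint_powers_iff_notMem_of_isPrime]; exact hfP
  haveI := IsLocalization.isPrime_of_isPrime_disjoint (Submonoid.powers f) T P inferInstance hdisj
  haveI : Nontrivial T := ⟨0, 1, fun h => Ideal.IsPrime.ne_top' (I := P.map (algebraMap F T))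
    ((Ideal.eq_top_iff_one _).mpr (h ▸ zero_mem _))⟩
  have h1 : ringKrullDim T = ((1 : ℕ) : WithBot ℕ∞) := SmoothDim.ringKrullDim_eq k T 1
  haveI : Ring.KrullDimLE 0 T := Ring.krullDimLE_zero_iff.mpr fun Q hQ => by
    have hu := (IsLocalization.isPrime_iff_isPrime_disjoint (Submonoid.powers f) T Q).mp hQ
    haveI := hu.1
    obtain ⟨P', hP', hle⟩ := Ideal.exists_minimalPrimes_le (show (⊥ : Ideal F) ≤ Q.under F from bot_le)
    have hPP' : P' = P := by
      by_contra hne
      have hmem : P' ∈ s := Finset.mem_erase.mpr ⟨hne, hfin.mem_toFinset.mpr hP'⟩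
      exact Set.disjoint_left.mp hu.2 ⟨1, pow_one f⟩ (hle (Finset.inf_le (f := id) hmem hfs))
    subst hPP'
    have hQP : Q.under F = P' := (hmax.eq_of_le hu.1.ne_top hle).symm
    refine ⟨⟨hQ.ne_top, fun R hR => ?_⟩⟩
    by_contra hRt
    obtain ⟨M, hM, hRM⟩ := Ideal.exists_le_maximal R hRt
    have hM' := (IsLocalization.isPrime_iff_isPrime_disjoint (Submonoid.powers f) T M).mp hM.isPrime
    have hle' : Q.under F ≤ M.under F := Ideal.comap_mono (hR.le.trans hRM)
    have heq : M.under F = Q.under F := (hmax.eq_of_le hM'.1.ne_top (hQP ▸ hle')).symm.trans hQP.symm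
    have hMQ : M = Q := by
      rw [← IsLocalization.map_under (Submonoid.powers f) T M, heq,
        IsLocalization.map_under (Submonoid.powers f) T Q]
    exact absurd (hMQ ▸ hRM) hR.not_ge
  have h0 : ringKrullDim T ≤ ((0 : ℕ) : WithBot ℕ∞) := Ring.krullDimLE_iff.mp ‹_›
  rw [h1] at h0
  exact absurd h0 (not_le.mpr (by exact_mod_cast zero_lt_one))

omit [Algebra.IsStandardSmoothOfRelativeDimension 1 k F] in
theorem isMaximal_of_le {J P : Ideal F} [P.IsPrime] (hle : J ≤ P) (h : Module.Finite k (F ⧸ J)) :
    P.IsMaximal := by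
  haveI : Module.Finite k (F ⧸ P) := Module.Finite.of_surjective
    (Ideal.Quotient.factorₐ k hle).toLinearMap (Ideal.Quotient.factor_surjective hle)
  exact Ideal.Quotient.maximal_of_isField P
    (isField_of_isIntegral_of_isField' (R := k) (Field.toIsField k))

/-- An ideal with finite-dimensional quotient is locally generated by one of its own elements. -/
theorem exists_gen_atPrime (J : Ideal F) (Q : Ideal F) [Q.IsPrime] :
    ∃ a ∈ J, J.map (algebraMap F (Localization.AtPrime Q)) =
      Ideal.span {algebraMap F (Localization.AtPrime Q) a} := by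
  haveI := Algebra.IsStandardSmoothOfRelativeDimension.isStandardSmooth (R := k) (S := F) (n := 1)
  haveI := GrpSchLib.regular_of_isStandardSmooth k F Q
  haveI := RegLoc6.isDomain_of_isRegularLocalRing (Localization.AtPrime Q)
  haveI : Nontrivial F := (algebraMap F (Localization.AtPrime Q)).domain_nontrivial
  have h1 : ringKrullDim F = ((1 : ℕ) : WithBot ℕ∞) := SmoothDim.ringKrullDim_eq k F 1
  haveI : IsPrincipalIdealRing (Localization.AtPrime Q) := by
    refine DimFormula.isPrincipalIdealRing_of_regular_dim_le_one ?_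
    rw [← Nat.cast_one, ← h1, IsLocalization.AtPrime.ringKrullDim_eq_height Q]
    exact Ideal.height_le_ringKrullDim_of_ne_top (Ideal.IsPrime.ne_top ‹_›)
  set R := Localization.AtPrime Q
  obtain ⟨g, hg⟩ := (IsPrincipalIdealRing.principal (J.map (algebraMap F R))).principal
  by_cases hg0 : g = 0
  · refine ⟨0, zero_mem _, ?_⟩
    rw [hg, hg0, map_zero]
  by_contra hcon
  push Not at hcon
  have hle : J.map (algebraMap F R) ≤ Ideal.span {g} * IsLocalRing.maximalIdeal R := by
    rw [Ideal.map_le_iff_le_comap]
    intro a ha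
    have : algebraMap F R a ∈ Ideal.span {g} := hg.le (Ideal.mem_map_of_mem _ ha)
    obtain ⟨d, hd⟩ := Ideal.mem_span_singleton.mp this
    rw [Ideal.mem_comap, hd]
    refine Ideal.mul_mem_mul (Ideal.mem_span_singleton_self g) ((IsLocalRing.mem_maximalIdeal d).mpr fun hu => ?_)
    exact hcon a ha (by rw [hg, hd, Ideal.span_singleton_mul_right_unit hu])
  have hgm : g ∈ Ideal.span {g} * IsLocalRing.maximalIdeal R :=
    hle (hg.ge (Ideal.mem_span_singleton_self g))
  obtain ⟨z, hz, hgz⟩ := Ideal.mem_span_singleton_mul.mp hgm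
  have : z = 1 := mul_left_cancel₀ hg0 (hgz.trans (mul_one g).symm)
  subst this
  exact (IsLocalRing.mem_maximalIdeal _).mp hz isUnit_one

theorem not_le_minimal {J : Ideal F} [Module.Finite k (F ⧸ J)] {P : Ideal F}
    (hP : P ∈ minimalPrimes F) : ¬ J ≤ P := by
  intro hle
  haveI : P.IsPrime := hP.1.1
  exact not_isMaximal_of_minimal k F P hP (isMaximal_of_le k F hle ‹_›)

end Groth.Agent.RelCurve
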